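import Cfsg.Agent.Lib.Helper12.TC.Heo8330.Tab
import Cfsg.Agent.Lib.Helper12.TC.Fn.LowerParts

/-! checks for the lower bound of the order, part 0 (generated, helper12) -/

set_option autoImplicit false
set_option maxRecDepth 100000

namespace Cfsg.Agent.Lib.Helper12.TC.Heo8330

open Cfsg.Agent.Lib.Helper12.TC

theorem hs7_0 : Fn.slpColK TT 7 [5, 3, 2, 3, 5, 2, 3, 2, 3, 5, 2, 3, 2, 3, 2] 0 7500 = true := by decide +kernel

theorem hs11_1 : Fn.slpColK TT 11 [0, 0, 8, 0, 6, 3, 6, 0, 8, 3, 7, 7, 8, 3, 5, 3, 3, 7, 4, 0, 6, 8, 1, 2] 4800 3530 = true := by decide +kernel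

theorem hs16_2 : Fn.slpColK TT 16 [15, 15, 14, 14, 12, 14, 13, 13, 15, 12, 7, 1, 0, 4, 6, 5, 6, 3, 4, 1, 4, 8, 3, 9, 6, 0, 3, 0, 6, 2, 0, 2, 7, 8] 6856 1474 = true := by decide +kernel

theorem hcomm_0 : Fn.eqWordsK TT [0, 7] [7, 0] 0 8330 = true := by decide +kernel

theorem hni5_1_0 : Fn.eqWordsK TT [7, 5] [5, 7] 0 8330 = true := by decide +kernel

theorem hgens2 : Fn.gensK TT 20 [1, 0] [14, 15, 16, 17, 18, 19] = true := by decide +kernel

/-- a part of a tree -/
def tree2_0 : List (ℕ × ℕ × ℕ) :=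
  [(89, 2, 14), (11, 2, 15), (594, 89, 14), (102, 89, 15), (36, 89, 16), (94, 89, 17), (71, 11, 14), (4, 11, 15), (12, 11, 16), (34, 11, 17), (216, 594, 14), (635, 594, 15), (236, 102, 15), (101, 36, 15), (139, 94, 15), (404, 71, 14), (93, 216, 16), (440, 635, 14), (441, 635, 16), (234, 101, 14)]

theorem ht2_0 : Fn.treePartK TT [14, 15, 16, 17, 18, 19] tree2_0 4
    (fun s => Nat.beq s 142576269300758436763300378193110860275783565244502067302987071902215161580294259057399224091299060448607914454772187301423212036829343838262761861229436007918641748806555832779027375720503316) = true := by decide +kernel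

theorem hgens1 : Fn.gensK TT 20 [0] [12, 13, 14, 15, 16, 17, 18, 19] = true := by decide +kernel

theorem hgens3 : Fn.gensK TT 20 [2, 1, 0] [16, 17, 18, 19] = true := by decide +kernel

/-- a part of a tree -/
def tree3_0 : List (ℕ × ℕ × ℕ) :=
  [(49, 3, 16), (7, 3, 17), (24, 3, 18), (53, 49, 16), (16, 49, 17), (5, 49, 18), (25, 49, 19), (9, 7, 16), (8, 7, 18), (48, 7, 19), (28, 24, 16), (50, 24, 19), (15, 16, 18), (23, 9, 18), (17, 48, 18)]

theorem ht3_0 : Fn.treePartK TT [16, 17, 18, 19] tree3_0 8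
    (fun s => Nat.beq s 10977524419101608) = true := by decide +kernel

theorem hgens0 : Fn.gensK TT 20 [] [10, 11, 12, 13, 14, 15, 16, 17, 18, 19] = true := by decide +kernel

theorem hgens4 : Fn.gensK TT 20 [3, 2, 1, 0] [19] = true := by decide +kernel

/-- a part of a tree -/
def tree4_0 : List (ℕ × ℕ × ℕ) :=
  [(102, 4, 19)]

theorem ht4_0 : Fn.treePartK TT [19] tree4_0 16
    (fun s => Nat.beq s 5070602400912917605986812821520) = true := by decide +kernel

end Cfsg.Agent.Lib.Helper12.TC.Heo8330
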