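import Cfsg.Agent.Lib.Helper12.TC.Heo8330.Tab
import Cfsg.Agent.Lib.Helper12.TC.Fn.LowerParts

/-! checks for the lower bound of the order, part 1 (generated, helper12) -/

set_option autoImplicit false
set_option maxRecDepth 100000

namespace Cfsg.Agent.Lib.Helper12.TC.Heo8330

open Cfsg.Agent.Lib.Helper12.TC

theorem hs10_0 : Fn.slpColK TT 10 [2, 9, 1, 4, 1, 7, 7, 7, 6, 3, 1, 7, 0, 6, 6, 9, 0, 7, 4, 3, 9, 1, 5, 0] 0 4800 = true := by decide +kernel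

theorem hs12_2 : Fn.slpColK TT 12 [11, 10, 11, 11, 10, 11, 10, 10, 11, 11, 10, 10, 10, 4, 1, 5, 8, 6, 8, 3, 4, 4, 9, 7, 8, 6, 9, 0, 7, 3, 6, 6, 2, 5, 8, 5, 1] 6314 2016 = true := by decide +kernel

theorem hs9_1 : Fn.slpColK TT 9 [1, 2, 3, 5, 4, 3, 2, 3, 4, 1, 2, 3, 2, 3, 1, 2, 3, 5, 4, 3, 2, 1] 5217 3113 = true := by decide +kernel

theorem hn2_1_0 : Fn.eqWordsK TT [2, 7] [7, 2] 0 8330 = true := by decide +kernel

theorem hn6_1_0 : Fn.eqWordsK TT [6, 7] [7, 6] 0 8330 = true := by decide +kernel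

end Cfsg.Agent.Lib.Helper12.TC.Heo8330
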