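import Cfsg.Agent.Lib.Helper12.TC.Heo8330.Tab
import Cfsg.Agent.Lib.Helper12.TC.Fn.LowerParts

/-! checks for the lower bound of the order, part 11 (generated, helper12) -/

set_option autoImplicit false
set_option maxRecDepth 100000

namespace Cfsg.Agent.Lib.Helper12.TC.Heo8330

open Cfsg.Agent.Lib.Helper12.TC

theorem hs14_1 : Fn.slpColK TT 14 [13, 12, 13, 13, 12, 13, 12, 13, 12, 3, 6, 8, 5, 9, 5, 7, 4, 8, 9, 0, 6, 8, 2, 8, 8, 3, 6, 0, 7, 5, 9, 8, 3] 3529 3529 = true := by decide +kernel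

theorem hs17_1 : Fn.slpColK TT 17 [15, 15, 14, 16, 12, 15, 13, 15, 12, 6, 8, 3, 8, 7, 3, 8, 0, 6, 9, 5, 6, 0, 4, 2, 3, 0, 4, 1, 1, 4, 4, 2, 6] 3529 3529 = true := by decide +kernel

theorem hs13_2 : Fn.slpColK TT 13 [11, 11, 12, 12, 12, 10, 12, 10, 7, 8, 1, 2, 8, 6, 5, 7, 0, 7, 0, 4, 9, 9, 9, 6, 2, 2, 8, 3, 0, 3, 8, 8] 7272 1058 = true := by decide +kernel

theorem hni2_1_0 : Fn.eqWordsK TT [7, 2] [2, 7] 0 8330 = true := by decide +kernel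

theorem hni6_1_0 : Fn.eqWordsK TT [7, 6] [6, 7] 0 8330 = true := by decide +kernel

end Cfsg.Agent.Lib.Helper12.TC.Heo8330
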