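import Cfsg.Agent.Lib.Helper12.TC.Heo8330.Tab
import Cfsg.Agent.Lib.Helper12.TC.Fn.LowerParts

/-! checks for the lower bound of the order, part 2 (generated, helper12) -/

set_option autoImplicit false
set_option maxRecDepth 100000

namespace Cfsg.Agent.Lib.Helper12.TC.Heo8330

open Cfsg.Agent.Lib.Helper12.TC

theorem hs11_0 : Fn.slpColK TT 11 [0, 0, 8, 0, 6, 3, 6, 0, 8, 3, 7, 7, 8, 3, 5, 3, 3, 7, 4, 0, 6, 8, 1, 2] 0 4800 = true := by decide +kernel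

theorem hs15_2 : Fn.slpColK TT 15 [12, 12, 12, 14, 14, 13, 13, 10, 13, 11, 11, 14, 13, 8, 6, 7, 5, 6, 5, 0, 8, 8, 9, 9, 5, 7, 9, 0, 3, 2, 8, 9, 2, 1, 8, 4, 0] 6314 2016 = true := by decide +kernel

theorem hs18_2 : Fn.slpColK TT 18 [15, 14, 17, 12, 14, 14, 12, 13, 11, 15, 14, 13, 9, 4, 2, 0, 8, 0, 9, 3, 9, 7, 2, 9, 8, 0, 6, 3, 5, 1, 3, 9, 6, 9, 3, 7] 6486 1844 = true := by decide +kernel

theorem hn2_0_0 : Fn.eqWordsK TT [2, 0] [0, 2] 0 8330 = true := by decide +kernel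

theorem hn6_0_0 : Fn.eqWordsK TT [6, 0] [0, 6] 0 8330 = true := by decide +kernel

end Cfsg.Agent.Lib.Helper12.TC.Heo8330
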