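import Cfsg.Agent.Lib.Helper12.TC.Heo8330.Tab
import Cfsg.Agent.Lib.Helper12.TC.Fn.LowerParts

/-! checks for the lower bound of the order, part 4 (generated, helper12) -/

set_option autoImplicit false
set_option maxRecDepth 100000

namespace Cfsg.Agent.Lib.Helper12.TC.Heo8330

open Cfsg.Agent.Lib.Helper12.TC

theorem hs18_0 : Fn.slpColK TT 18 [15, 14, 17, 12, 14, 14, 12, 13, 11, 15, 14, 13, 9, 4, 2, 0, 8, 0, 9, 3, 9, 7, 2, 9, 8, 0, 6, 3, 5, 1, 3, 9, 6, 9, 3, 7] 0 3243 = true := by decide +kernel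

theorem hs15_1 : Fn.slpColK TT 15 [12, 12, 12, 14, 14, 13, 13, 10, 13, 11, 11, 14, 13, 8, 6, 7, 5, 6, 5, 0, 8, 8, 9, 9, 5, 7, 9, 0, 3, 2, 8, 9, 2, 1, 8, 4, 0] 3157 3157 = true := by decide +kernel

theorem hn8_1_0 : Fn.eqWordsK TT [8, 7] [0, 7, 8] 0 8330 = true := by decide +kernel

theorem hni3_0_0 : Fn.eqWordsK TT [0, 3] [3, 0] 0 8330 = true := by decide +kernel

theorem hni8_0_0 : Fn.eqWordsK TT [0, 8] [8, 0] 0 8330 = true := by decide +kernel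

end Cfsg.Agent.Lib.Helper12.TC.Heo8330
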