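import Cfsg.Agent.Lib.Helper12.TC.Heo8330.Tab
import Cfsg.Agent.Lib.Helper12.TC.Fn.LowerParts

/-! checks for the lower bound of the order, part 5 (generated, helper12) -/

set_option autoImplicit false
set_option maxRecDepth 100000

namespace Cfsg.Agent.Lib.Helper12.TC.Heo8330

open Cfsg.Agent.Lib.Helper12.TC

theorem hs18_1 : Fn.slpColK TT 18 [15, 14, 17, 12, 14, 14, 12, 13, 11, 15, 14, 13, 9, 4, 2, 0, 8, 0, 9, 3, 9, 7, 2, 9, 8, 0, 6, 3, 5, 1, 3, 9, 6, 9, 3, 7] 3243 3243 = true := by decide +kernel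

theorem hs10_1 : Fn.slpColK TT 10 [2, 9, 1, 4, 1, 7, 7, 7, 6, 3, 1, 7, 0, 6, 6, 9, 0, 7, 4, 3, 9, 1, 5, 0] 4800 3530 = true := by decide +kernel

theorem hs19_2 : Fn.slpColK TT 19 [15, 14, 14, 12, 12, 15, 10, 11, 10, 11, 12, 1, 6, 4, 8, 7, 0, 5, 9, 6, 4, 0, 2, 3, 5, 9, 2, 5, 6, 3, 4, 1, 6, 8, 5] 6666 1664 = true := by decide +kernel

theorem hni2_0_0 : Fn.eqWordsK TT [0, 2] [2, 0] 0 8330 = true := by decide +kernel

theorem hni6_0_0 : Fn.eqWordsK TT [0, 6] [6, 0] 0 8330 = true := by decide +kernel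

end Cfsg.Agent.Lib.Helper12.TC.Heo8330
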