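import Cfsg.Agent.Lib.Helper12.TC.Heo8330.Main
import Cfsg.Agent.Lib.Helper12.TC.Heo8330.Lev0
import Cfsg.Agent.Lib.Helper12.TC.Heo8330.Lev1
import Cfsg.Agent.Lib.Helper12.TC.Heo8330.Lev2
import Cfsg.Agent.Lib.Helper12.TC.Heo8330.Lev3
import Cfsg.Agent.Lib.Helper12.TC.Heo8330.Lev4
import Cfsg.Agent.Lib.Helper12.TC.Heo8330.Lev5
import Cfsg.Agent.Lib.Helper12.TC.Heo8330.Lev6
import Cfsg.Agent.Lib.Helper12.TC.Heo8330.Lev7
import Cfsg.Agent.Lib.Helper12.TC.Heo8330.Lev8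
import Cfsg.Agent.Lib.Helper12.TC.Heo8330.Lev9
import Cfsg.Agent.Lib.Helper12.TC.Heo8330.Lev10
import Cfsg.Agent.Lib.Helper12.TC.Heo8330.Lev11

/-! the permutation representation and the lower bound for the order for Heo8330 (generated, helper12) -/

set_option autoImplicit false
set_option maxRecDepth 100000

namespace Cfsg.Agent.Lib.Helper12.TC.Heo8330

open Cfsg.Agent.Lib.Helper12.TC Cfsg.Agent.Lib.Helper12.TC.HePres

/-- the permutation representation -/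
noncomputable def rho : (PresentedGroup (Cfsg.Spor.coxRelators Cfsg.Spor.He.edges ∪
      {r | r ∈ Cfsg.Spor.He.extra})) →* Equiv.Perm (Fin cN) := mainRho.choose

theorem rho_gen : ∀ x < 7, ∀ i : Fin cN, ((rho ((PresentedGroup.mk (Cfsg.Spor.coxRelators Cfsg.Spor.He.edges ∪
      {r | r ∈ Cfsg.Spor.He.extra}))
    (FreeGroup.of (gen x))) i : Fin cN) : ℕ) = TT x i := mainRho.choose_spec.1

theorem rho_index : ((Subgroup.closure S).map (PresentedGroup.mk (Cfsg.Spor.coxRelators Cfsg.Spor.He.edges ∪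
      {r | r ∈ Cfsg.Spor.He.extra}))).index = cN := mainRho.choose_spec.2.1

theorem rho_equiv : ∃ Φ : ((PresentedGroup (Cfsg.Spor.coxRelators Cfsg.Spor.He.edges ∪
      {r | r ∈ Cfsg.Spor.He.extra})) ⧸
    (Subgroup.closure S).map (PresentedGroup.mk (Cfsg.Spor.coxRelators Cfsg.Spor.He.edges ∪
      {r | r ∈ Cfsg.Spor.He.extra}))) ≃ Fin cN,
    ∀ γ : (PresentedGroup (Cfsg.Spor.coxRelators Cfsg.Spor.He.edges ∪
      {r | r ∈ Cfsg.Spor.He.extra})), Φ (γ : (PresentedGroup (Cfsg.Spor.coxRelators Cfsg.Spor.He.edges ∪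
      {r | r ∈ Cfsg.Spor.He.extra})) ⧸
      (Subgroup.closure S).map (PresentedGroup.mk (Cfsg.Spor.coxRelators Cfsg.Spor.He.edges ∪
      {r | r ∈ Cfsg.Spor.He.extra}))) = rho γ ⟨0, hN0⟩ := mainRho.choose_spec.2.2

/-- the words of the further columns -/
def prog : List (List ℕ) :=
  [[5, 3, 2, 3, 5, 2, 3, 2, 3, 5, 2, 3, 2, 3, 2],
   [0, 1, 0, 1],
   [1, 2, 3, 5, 4, 3, 2, 3, 4, 1, 2, 3, 2, 3, 1, 2, 3, 5, 4, 3, 2, 1],
   [2, 9, 1, 4, 1, 7, 7, 7, 6, 3, 1, 7, 0, 6, 6, 9, 0, 7, 4, 3, 9, 1, 5, 0],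
   [0, 0, 8, 0, 6, 3, 6, 0, 8, 3, 7, 7, 8, 3, 5, 3, 3, 7, 4, 0, 6, 8, 1, 2],
   [11, 10, 11, 11, 10, 11, 10, 10, 11, 11, 10, 10, 10, 4, 1, 5, 8, 6, 8, 3, 4, 4, 9, 7, 8, 6, 9, 0, 7, 3, 6, 6, 2, 5, 8, 5, 1],
   [11, 11, 12, 12, 12, 10, 12, 10, 7, 8, 1, 2, 8, 6, 5, 7, 0, 7, 0, 4, 9, 9, 9, 6, 2, 2, 8, 3, 0, 3, 8, 8],
   [13, 12, 13, 13, 12, 13, 12, 13, 12, 3, 6, 8, 5, 9, 5, 7, 4, 8, 9, 0, 6, 8, 2, 8, 8, 3, 6, 0, 7, 5, 9, 8, 3],
   [12, 12, 12, 14, 14, 13, 13, 10, 13, 11, 11, 14, 13, 8, 6, 7, 5, 6, 5, 0, 8, 8, 9, 9, 5, 7, 9, 0, 3, 2, 8, 9, 2, 1, 8, 4, 0],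
   [15, 15, 14, 14, 12, 14, 13, 13, 15, 12, 7, 1, 0, 4, 6, 5, 6, 3, 4, 1, 4, 8, 3, 9, 6, 0, 3, 0, 6, 2, 0, 2, 7, 8],
   [15, 15, 14, 16, 12, 15, 13, 15, 12, 6, 8, 3, 8, 7, 3, 8, 0, 6, 9, 5, 6, 0, 4, 2, 3, 0, 4, 1, 1, 4, 4, 2, 6],
   [15, 14, 17, 12, 14, 14, 12, 13, 11, 15, 14, 13, 9, 4, 2, 0, 8, 0, 9, 3, 9, 7, 2, 9, 8, 0, 6, 3, 5, 1, 3, 9, 6, 9, 3, 7],
   [15, 14, 14, 12, 12, 15, 10, 11, 10, 11, 12, 1, 6, 4, 8, 7, 0, 5, 9, 6, 4, 0, 2, 3, 5, 9, 2, 5, 6, 3, 4, 1, 6, 8, 5]]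

theorem hcol7 : Fn.ColOK TT 7 [5, 3, 2, 3, 5, 2, 3, 2, 3, 5, 2, 3, 2, 3, 2] cN :=
  Fn.colOK_step hs7_1 rfl
    (Fn.colOK_step hs7_0 rfl
    (Fn.colOK_start TT 7 [5, 3, 2, 3, 5, 2, 3, 2, 3, 5, 2, 3, 2, 3, 2]))

theorem hstep7 : Fn.slpStepK TT cN 7 [5, 3, 2, 3, 5, 2, 3, 2, 3, 5, 2, 3, 2, 3, 2] = true :=
  Fn.slpStepK_of_colOK (by decide) hcol7

theorem hcol8 : Fn.ColOK TT 8 [0, 1, 0, 1] cN :=
  Fn.colOK_step hs8_0 rfl
    (Fn.colOK_start TT 8 [0, 1, 0, 1])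

theorem hstep8 : Fn.slpStepK TT cN 8 [0, 1, 0, 1] = true :=
  Fn.slpStepK_of_colOK (by decide) hcol8

theorem hcol9 : Fn.ColOK TT 9 [1, 2, 3, 5, 4, 3, 2, 3, 4, 1, 2, 3, 2, 3, 1, 2, 3, 5, 4, 3, 2, 1] cN :=
  Fn.colOK_step hs9_1 rfl
    (Fn.colOK_step hs9_0 rfl
    (Fn.colOK_start TT 9 [1, 2, 3, 5, 4, 3, 2, 3, 4, 1, 2, 3, 2, 3, 1, 2, 3, 5, 4, 3, 2, 1]))

theorem hstep9 : Fn.slpStepK TT cN 9 [1, 2, 3, 5, 4, 3, 2, 3, 4, 1, 2, 3, 2, 3, 1, 2, 3, 5, 4, 3, 2, 1] = true :=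
  Fn.slpStepK_of_colOK (by decide) hcol9

theorem hcol10 : Fn.ColOK TT 10 [2, 9, 1, 4, 1, 7, 7, 7, 6, 3, 1, 7, 0, 6, 6, 9, 0, 7, 4, 3, 9, 1, 5, 0] cN :=
  Fn.colOK_step hs10_1 rfl
    (Fn.colOK_step hs10_0 rfl
    (Fn.colOK_start TT 10 [2, 9, 1, 4, 1, 7, 7, 7, 6, 3, 1, 7, 0, 6, 6, 9, 0, 7, 4, 3, 9, 1, 5, 0]))

theorem hstep10 : Fn.slpStepK TT cN 10 [2, 9, 1, 4, 1, 7, 7, 7, 6, 3, 1, 7, 0, 6, 6, 9, 0, 7, 4, 3, 9, 1, 5, 0] = true :=
  Fn.slpStepK_of_colOK (by decide) hcol10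

theorem hcol11 : Fn.ColOK TT 11 [0, 0, 8, 0, 6, 3, 6, 0, 8, 3, 7, 7, 8, 3, 5, 3, 3, 7, 4, 0, 6, 8, 1, 2] cN :=
  Fn.colOK_step hs11_1 rfl
    (Fn.colOK_step hs11_0 rfl
    (Fn.colOK_start TT 11 [0, 0, 8, 0, 6, 3, 6, 0, 8, 3, 7, 7, 8, 3, 5, 3, 3, 7, 4, 0, 6, 8, 1, 2]))

theorem hstep11 : Fn.slpStepK TT cN 11 [0, 0, 8, 0, 6, 3, 6, 0, 8, 3, 7, 7, 8, 3, 5, 3, 3, 7, 4, 0, 6, 8, 1, 2] = true :=
  Fn.slpStepK_of_colOK (by decide) hcol11

theorem hcol12 : Fn.ColOK TT 12 [11, 10, 11, 11, 10, 11, 10, 10, 11, 11, 10, 10, 10, 4, 1, 5, 8, 6, 8, 3, 4, 4, 9, 7, 8, 6, 9, 0, 7, 3, 6, 6, 2, 5, 8, 5, 1] cN :=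
  Fn.colOK_step hs12_2 rfl
    (Fn.colOK_step hs12_1 rfl
    (Fn.colOK_step hs12_0 rfl
    (Fn.colOK_start TT 12 [11, 10, 11, 11, 10, 11, 10, 10, 11, 11, 10, 10, 10, 4, 1, 5, 8, 6, 8, 3, 4, 4, 9, 7, 8, 6, 9, 0, 7, 3, 6, 6, 2, 5, 8, 5, 1])))

theorem hstep12 : Fn.slpStepK TT cN 12 [11, 10, 11, 11, 10, 11, 10, 10, 11, 11, 10, 10, 10, 4, 1, 5, 8, 6, 8, 3, 4, 4, 9, 7, 8, 6, 9, 0, 7, 3, 6, 6, 2, 5, 8, 5, 1] = true :=
  Fn.slpStepK_of_colOK (by decide) hcol12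

theorem hcol13 : Fn.ColOK TT 13 [11, 11, 12, 12, 12, 10, 12, 10, 7, 8, 1, 2, 8, 6, 5, 7, 0, 7, 0, 4, 9, 9, 9, 6, 2, 2, 8, 3, 0, 3, 8, 8] cN :=
  Fn.colOK_step hs13_2 rfl
    (Fn.colOK_step hs13_1 rfl
    (Fn.colOK_step hs13_0 rfl
    (Fn.colOK_start TT 13 [11, 11, 12, 12, 12, 10, 12, 10, 7, 8, 1, 2, 8, 6, 5, 7, 0, 7, 0, 4, 9, 9, 9, 6, 2, 2, 8, 3, 0, 3, 8, 8])))

theorem hstep13 : Fn.slpStepK TT cN 13 [11, 11, 12, 12, 12, 10, 12, 10, 7, 8, 1, 2, 8, 6, 5, 7, 0, 7, 0, 4, 9, 9, 9, 6, 2, 2, 8, 3, 0, 3, 8, 8] = true :=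
  Fn.slpStepK_of_colOK (by decide) hcol13

theorem hcol14 : Fn.ColOK TT 14 [13, 12, 13, 13, 12, 13, 12, 13, 12, 3, 6, 8, 5, 9, 5, 7, 4, 8, 9, 0, 6, 8, 2, 8, 8, 3, 6, 0, 7, 5, 9, 8, 3] cN :=
  Fn.colOK_step hs14_2 rfl
    (Fn.colOK_step hs14_1 rfl
    (Fn.colOK_step hs14_0 rfl
    (Fn.colOK_start TT 14 [13, 12, 13, 13, 12, 13, 12, 13, 12, 3, 6, 8, 5, 9, 5, 7, 4, 8, 9, 0, 6, 8, 2, 8, 8, 3, 6, 0, 7, 5, 9, 8, 3])))

theorem hstep14 : Fn.slpStepK TT cN 14 [13, 12, 13, 13, 12, 13, 12, 13, 12, 3, 6, 8, 5, 9, 5, 7, 4, 8, 9, 0, 6, 8, 2, 8, 8, 3, 6, 0, 7, 5, 9, 8, 3] = true :=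
  Fn.slpStepK_of_colOK (by decide) hcol14

theorem hcol15 : Fn.ColOK TT 15 [12, 12, 12, 14, 14, 13, 13, 10, 13, 11, 11, 14, 13, 8, 6, 7, 5, 6, 5, 0, 8, 8, 9, 9, 5, 7, 9, 0, 3, 2, 8, 9, 2, 1, 8, 4, 0] cN :=
  Fn.colOK_step hs15_2 rfl
    (Fn.colOK_step hs15_1 rfl
    (Fn.colOK_step hs15_0 rfl
    (Fn.colOK_start TT 15 [12, 12, 12, 14, 14, 13, 13, 10, 13, 11, 11, 14, 13, 8, 6, 7, 5, 6, 5, 0, 8, 8, 9, 9, 5, 7, 9, 0, 3, 2, 8, 9, 2, 1, 8, 4, 0])))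

theorem hstep15 : Fn.slpStepK TT cN 15 [12, 12, 12, 14, 14, 13, 13, 10, 13, 11, 11, 14, 13, 8, 6, 7, 5, 6, 5, 0, 8, 8, 9, 9, 5, 7, 9, 0, 3, 2, 8, 9, 2, 1, 8, 4, 0] = true :=
  Fn.slpStepK_of_colOK (by decide) hcol15

theorem hcol16 : Fn.ColOK TT 16 [15, 15, 14, 14, 12, 14, 13, 13, 15, 12, 7, 1, 0, 4, 6, 5, 6, 3, 4, 1, 4, 8, 3, 9, 6, 0, 3, 0, 6, 2, 0, 2, 7, 8] cN :=
  Fn.colOK_step hs16_2 rfl
    (Fn.colOK_step hs16_1 rfl
    (Fn.colOK_step hs16_0 rfl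
    (Fn.colOK_start TT 16 [15, 15, 14, 14, 12, 14, 13, 13, 15, 12, 7, 1, 0, 4, 6, 5, 6, 3, 4, 1, 4, 8, 3, 9, 6, 0, 3, 0, 6, 2, 0, 2, 7, 8])))

theorem hstep16 : Fn.slpStepK TT cN 16 [15, 15, 14, 14, 12, 14, 13, 13, 15, 12, 7, 1, 0, 4, 6, 5, 6, 3, 4, 1, 4, 8, 3, 9, 6, 0, 3, 0, 6, 2, 0, 2, 7, 8] = true :=
  Fn.slpStepK_of_colOK (by decide) hcol16

theorem hcol17 : Fn.ColOK TT 17 [15, 15, 14, 16, 12, 15, 13, 15, 12, 6, 8, 3, 8, 7, 3, 8, 0, 6, 9, 5, 6, 0, 4, 2, 3, 0, 4, 1, 1, 4, 4, 2, 6] cN :=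
  Fn.colOK_step hs17_2 rfl
    (Fn.colOK_step hs17_1 rfl
    (Fn.colOK_step hs17_0 rfl
    (Fn.colOK_start TT 17 [15, 15, 14, 16, 12, 15, 13, 15, 12, 6, 8, 3, 8, 7, 3, 8, 0, 6, 9, 5, 6, 0, 4, 2, 3, 0, 4, 1, 1, 4, 4, 2, 6])))

theorem hstep17 : Fn.slpStepK TT cN 17 [15, 15, 14, 16, 12, 15, 13, 15, 12, 6, 8, 3, 8, 7, 3, 8, 0, 6, 9, 5, 6, 0, 4, 2, 3, 0, 4, 1, 1, 4, 4, 2, 6] = true :=
  Fn.slpStepK_of_colOK (by decide) hcol17

theorem hcol18 : Fn.ColOK TT 18 [15, 14, 17, 12, 14, 14, 12, 13, 11, 15, 14, 13, 9, 4, 2, 0, 8, 0, 9, 3, 9, 7, 2, 9, 8, 0, 6, 3, 5, 1, 3, 9, 6, 9, 3, 7] cN :=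
  Fn.colOK_step hs18_2 rfl
    (Fn.colOK_step hs18_1 rfl
    (Fn.colOK_step hs18_0 rfl
    (Fn.colOK_start TT 18 [15, 14, 17, 12, 14, 14, 12, 13, 11, 15, 14, 13, 9, 4, 2, 0, 8, 0, 9, 3, 9, 7, 2, 9, 8, 0, 6, 3, 5, 1, 3, 9, 6, 9, 3, 7])))

theorem hstep18 : Fn.slpStepK TT cN 18 [15, 14, 17, 12, 14, 14, 12, 13, 11, 15, 14, 13, 9, 4, 2, 0, 8, 0, 9, 3, 9, 7, 2, 9, 8, 0, 6, 3, 5, 1, 3, 9, 6, 9, 3, 7] = true :=
  Fn.slpStepK_of_colOK (by decide) hcol18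

theorem hcol19 : Fn.ColOK TT 19 [15, 14, 14, 12, 12, 15, 10, 11, 10, 11, 12, 1, 6, 4, 8, 7, 0, 5, 9, 6, 4, 0, 2, 3, 5, 9, 2, 5, 6, 3, 4, 1, 6, 8, 5] cN :=
  Fn.colOK_step hs19_2 rfl
    (Fn.colOK_step hs19_1 rfl
    (Fn.colOK_step hs19_0 rfl
    (Fn.colOK_start TT 19 [15, 14, 14, 12, 12, 15, 10, 11, 10, 11, 12, 1, 6, 4, 8, 7, 0, 5, 9, 6, 4, 0, 2, 3, 5, 9, 2, 5, 6, 3, 4, 1, 6, 8, 5])))

theorem hstep19 : Fn.slpStepK TT cN 19 [15, 14, 14, 12, 12, 15, 10, 11, 10, 11, 12, 1, 6, 4, 8, 7, 0, 5, 9, 6, 4, 0, 2, 3, 5, 9, 2, 5, 6, 3, 4, 1, 6, 8, 5] = true :=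
  Fn.slpStepK_of_colOK (by decide) hcol19

theorem hslp : Fn.slpAllK TT cN 7 prog = true :=
  Fn.slpAllK_cons hstep7
    (Fn.slpAllK_cons hstep8
    (Fn.slpAllK_cons hstep9
    (Fn.slpAllK_cons hstep10
    (Fn.slpAllK_cons hstep11
    (Fn.slpAllK_cons hstep12
    (Fn.slpAllK_cons hstep13
    (Fn.slpAllK_cons hstep14
    (Fn.slpAllK_cons hstep15
    (Fn.slpAllK_cons hstep16
    (Fn.slpAllK_cons hstep17
    (Fn.slpAllK_cons hstep18
    (Fn.slpAllK_cons hstep19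
    (Fn.slpAllK_nil TT cN 20)))))))))))))

theorem hslpl : Fn.slpLettersK 7 prog = true := by decide

/-- the generators and the further elements -/
noncomputable def uu : ℕ → (PresentedGroup (Cfsg.Spor.coxRelators Cfsg.Spor.He.edges ∪
      {r | r ∈ Cfsg.Spor.He.extra})) :=
  Fn.slpRun prog 7 (fun x => (PresentedGroup.mk (Cfsg.Spor.coxRelators Cfsg.Spor.He.edges ∪
      {r | r ∈ Cfsg.Spor.He.extra})) (FreeGroup.of (gen x)))

theorem rho_uu : ∀ x < 20, ∀ i : Fin cN, ((rho (uu x) i : Fin cN) : ℕ) = TT x i :=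
  (Fn.slp_sound rho TT prog 7 _ rho_gen hslp).1

theorem uu_gen : ∀ x < 7, uu x = (PresentedGroup.mk (Cfsg.Spor.coxRelators Cfsg.Spor.He.edges ∪
      {r | r ∈ Cfsg.Spor.He.extra})) (FreeGroup.of (gen x)) :=
  (Fn.slp_sound rho TT prog 7 _ rho_gen hslp).2.1

theorem uu_spec : ∀ (k : ℕ) (w : List ℕ), prog[k]? = some w → uu (7 + k) = wprod uu w :=
  Fn.slpRun_spec prog 7 _ hslpl

theorem hcomm : rho (wprod uu [0, 7]) = rho (wprod uu [7, 0]) :=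
  Fn.rho_wprod_eq rho TT uu 20 rho_uu (by decide) (by decide)
    (Fn.wordsEq_step hcomm_0 rfl
    (Fn.wordsEq_start TT [0, 7] [7, 0]))

theorem hn2_0 : rho (wprod uu [2, 0]) = rho (wprod uu [0, 2]) :=
  Fn.rho_wprod_eq rho TT uu 20 rho_uu (by decide) (by decide)
    (Fn.wordsEq_step hn2_0_0 rfl
    (Fn.wordsEq_start TT [2, 0] [0, 2]))

theorem hni2_0 : rho (wprod uu [0, 2]) = rho (wprod uu [2, 0]) :=
  Fn.rho_wprod_eq rho TT uu 20 rho_uu (by decide) (by decide)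
    (Fn.wordsEq_step hni2_0_0 rfl
    (Fn.wordsEq_start TT [0, 2] [2, 0]))

theorem hn2_1 : rho (wprod uu [2, 7]) = rho (wprod uu [7, 2]) :=
  Fn.rho_wprod_eq rho TT uu 20 rho_uu (by decide) (by decide)
    (Fn.wordsEq_step hn2_1_0 rfl
    (Fn.wordsEq_start TT [2, 7] [7, 2]))

theorem hni2_1 : rho (wprod uu [7, 2]) = rho (wprod uu [2, 7]) :=
  Fn.rho_wprod_eq rho TT uu 20 rho_uu (by decide) (by decide)
    (Fn.wordsEq_step hni2_1_0 rfl
    (Fn.wordsEq_start TT [7, 2] [2, 7]))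

theorem hn3_0 : rho (wprod uu [3, 0]) = rho (wprod uu [0, 3]) :=
  Fn.rho_wprod_eq rho TT uu 20 rho_uu (by decide) (by decide)
    (Fn.wordsEq_step hn3_0_0 rfl
    (Fn.wordsEq_start TT [3, 0] [0, 3]))

theorem hni3_0 : rho (wprod uu [0, 3]) = rho (wprod uu [3, 0]) :=
  Fn.rho_wprod_eq rho TT uu 20 rho_uu (by decide) (by decide)
    (Fn.wordsEq_step hni3_0_0 rfl
    (Fn.wordsEq_start TT [0, 3] [3, 0]))

theorem hn3_1 : rho (wprod uu [3, 7]) = rho (wprod uu [7, 3]) :=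
  Fn.rho_wprod_eq rho TT uu 20 rho_uu (by decide) (by decide)
    (Fn.wordsEq_step hn3_1_0 rfl
    (Fn.wordsEq_start TT [3, 7] [7, 3]))

theorem hni3_1 : rho (wprod uu [7, 3]) = rho (wprod uu [3, 7]) :=
  Fn.rho_wprod_eq rho TT uu 20 rho_uu (by decide) (by decide)
    (Fn.wordsEq_step hni3_1_0 rfl
    (Fn.wordsEq_start TT [7, 3] [3, 7]))

theorem hn5_0 : rho (wprod uu [5, 0]) = rho (wprod uu [0, 5]) :=
  Fn.rho_wprod_eq rho TT uu 20 rho_uu (by decide) (by decide)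
    (Fn.wordsEq_step hn5_0_0 rfl
    (Fn.wordsEq_start TT [5, 0] [0, 5]))

theorem hni5_0 : rho (wprod uu [0, 5]) = rho (wprod uu [5, 0]) :=
  Fn.rho_wprod_eq rho TT uu 20 rho_uu (by decide) (by decide)
    (Fn.wordsEq_step hni5_0_0 rfl
    (Fn.wordsEq_start TT [0, 5] [5, 0]))

theorem hn5_1 : rho (wprod uu [5, 7]) = rho (wprod uu [7, 5]) :=
  Fn.rho_wprod_eq rho TT uu 20 rho_uu (by decide) (by decide)
    (Fn.wordsEq_step hn5_1_0 rfl
    (Fn.wordsEq_start TT [5, 7] [7, 5]))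

theorem hni5_1 : rho (wprod uu [7, 5]) = rho (wprod uu [5, 7]) :=
  Fn.rho_wprod_eq rho TT uu 20 rho_uu (by decide) (by decide)
    (Fn.wordsEq_step hni5_1_0 rfl
    (Fn.wordsEq_start TT [7, 5] [5, 7]))

theorem hn6_0 : rho (wprod uu [6, 0]) = rho (wprod uu [0, 6]) :=
  Fn.rho_wprod_eq rho TT uu 20 rho_uu (by decide) (by decide)
    (Fn.wordsEq_step hn6_0_0 rfl
    (Fn.wordsEq_start TT [6, 0] [0, 6]))

theorem hni6_0 : rho (wprod uu [0, 6]) = rho (wprod uu [6, 0]) :=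
  Fn.rho_wprod_eq rho TT uu 20 rho_uu (by decide) (by decide)
    (Fn.wordsEq_step hni6_0_0 rfl
    (Fn.wordsEq_start TT [0, 6] [6, 0]))

theorem hn6_1 : rho (wprod uu [6, 7]) = rho (wprod uu [7, 6]) :=
  Fn.rho_wprod_eq rho TT uu 20 rho_uu (by decide) (by decide)
    (Fn.wordsEq_step hn6_1_0 rfl
    (Fn.wordsEq_start TT [6, 7] [7, 6]))

theorem hni6_1 : rho (wprod uu [7, 6]) = rho (wprod uu [6, 7]) :=
  Fn.rho_wprod_eq rho TT uu 20 rho_uu (by decide) (by decide)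
    (Fn.wordsEq_step hni6_1_0 rfl
    (Fn.wordsEq_start TT [7, 6] [6, 7]))

theorem hn8_0 : rho (wprod uu [8, 0]) = rho (wprod uu [0, 8]) :=
  Fn.rho_wprod_eq rho TT uu 20 rho_uu (by decide) (by decide)
    (Fn.wordsEq_step hn8_0_0 rfl
    (Fn.wordsEq_start TT [8, 0] [0, 8]))

theorem hni8_0 : rho (wprod uu [0, 8]) = rho (wprod uu [8, 0]) :=
  Fn.rho_wprod_eq rho TT uu 20 rho_uu (by decide) (by decide)
    (Fn.wordsEq_step hni8_0_0 rfl
    (Fn.wordsEq_start TT [0, 8] [8, 0]))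

theorem hn8_1 : rho (wprod uu [8, 7]) = rho (wprod uu [0, 7, 8]) :=
  Fn.rho_wprod_eq rho TT uu 20 rho_uu (by decide) (by decide)
    (Fn.wordsEq_step hn8_1_0 rfl
    (Fn.wordsEq_start TT [8, 7] [0, 7, 8]))

theorem hni8_1 : rho (wprod uu [7, 8]) = rho (wprod uu [8, 0, 7]) :=
  Fn.rho_wprod_eq rho TT uu 20 rho_uu (by decide) (by decide)
    (Fn.wordsEq_step hni8_1_0 rfl
    (Fn.wordsEq_start TT [7, 8] [8, 0, 7]))

theorem hn9_0 : rho (wprod uu [9, 0]) = rho (wprod uu [7, 9]) :=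
  Fn.rho_wprod_eq rho TT uu 20 rho_uu (by decide) (by decide)
    (Fn.wordsEq_step hn9_0_0 rfl
    (Fn.wordsEq_start TT [9, 0] [7, 9]))

theorem hni9_0 : rho (wprod uu [0, 9]) = rho (wprod uu [9, 0, 7]) :=
  Fn.rho_wprod_eq rho TT uu 20 rho_uu (by decide) (by decide)
    (Fn.wordsEq_step hni9_0_0 rfl
    (Fn.wordsEq_start TT [0, 9] [9, 0, 7]))

theorem hn9_1 : rho (wprod uu [9, 7]) = rho (wprod uu [0, 7, 9]) :=
  Fn.rho_wprod_eq rho TT uu 20 rho_uu (by decide) (by decide)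
    (Fn.wordsEq_step hn9_1_0 rfl
    (Fn.wordsEq_start TT [9, 7] [0, 7, 9]))

theorem hni9_1 : rho (wprod uu [7, 9]) = rho (wprod uu [9, 0]) :=
  Fn.rho_wprod_eq rho TT uu 20 rho_uu (by decide) (by decide)
    (Fn.wordsEq_step hni9_1_0 rfl
    (Fn.wordsEq_start TT [7, 9] [9, 0]))

theorem htree0 : Fn.TreeOK hN0 rho uu 20 [10, 11, 12, 13, 14, 15, 16, 17, 18, 19] 0 380070253878451855420046168479407849320760835254504625612144413733963837401034226028081854385995498338794413096450595881183848073183027696863373898413172373656941115613091245425719648213466813265230992212742731584150206493417938138532913363383164709444828787265476951820936389745657214883703566836592047173810946140813776834948023765418214010837117954446051212953443861795860807167317998355869387059010450365983353015682712831318519485864869550152650991028326294021605983344398707252373928555682507955685420727821983255686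2035200238594682338719736951404612514052992217096347138396699389174451814988259329864962923581580379191670109902124975812088200104714888497423158984713144696186877394942997706849449129182777846191957966119918749757003076284199851508878439735365274047665912269566024232549034252350417961315140527917240635686401698872215639314887485475263465046814227230874753205557516386004374531687321402227070565243197497749046107723916721048338529589911252357682651449319117229730771455793983393500028228656028058677535420836579013870935543668285709762025962465692154946447066758347860740102041376731208862016668114000481488628715984082560913968442503158741715585667739546719285155475451872252696371180418548180937826734214648322691769702898204996930849682132441328845383975817357724818616797355920743131834610907037984886016206234378309888471456929363263279840321202357687773993525521875305493064739022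69253447920977935987588975634931241426843745709574166328736267869157232910080373852064515389058586286433817064677738312715625970241474491989463244923682086311723943055274457494018678934411705565196654105284737889567176809634867691572273925965877008339560355636883667928329980987805594203361164457996510480146729173205342047125103638764868469020075190939286677074090633011927144879313857632199662527924096516014695800408084707208175017507176964332213264527327516434626428587291313346544639578537640645026636093793525051624719534302240807971659803934659611795394221101298010205615895624407469546750443398898874599855646776797475036715764623514726559995706082593985555844685436032022951883330027402931163176964547085804688946177146462107783518094727806226830509572477410308653196216196156190478014188882474900072651439670567707218561360752822077775337364156833406190112911938640968885507480541237278115309876412051006087969292440042280310414788437727625282998731677481808196727963207907274175486739729829743438720376086672700624436071596152989465293994675958270942391736614569715965104208722551373823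 8330 :=
  Fn.treeOK_step hN0 rho TT uu 20 rho_uu ht0_2 rfl
    (Fn.treeOK_step hN0 rho TT uu 20 rho_uu ht0_1 rfl
    (Fn.treeOK_step hN0 rho TT uu 20 rho_uu ht0_0 rfl
    (Fn.treeOK_start hN0 rho uu 20 [10, 11, 12, 13, 14, 15, 16, 17, 18, 19] 0 (by decide))))

theorem hlev0 : Fn.LevelOK hN0 rho [] 0 8330 :=
  Fn.levelOK_of_tree hN0 rho TT uu 20 rho_uu (by decide) (by decide) hgens0 htree0

theorem htree1 : Fn.TreeOK hN0 rho uu 20 [12, 13, 14, 15, 16, 17, 18, 19] 1 11031304526203974597457456414861827591216226218170224705794538792432397774848431640257320003887617175667569787102671861633294128382337464639166223001902133228245297232354359845986844033174623155170927185464197384241150 720 :=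
  Fn.treeOK_step hN0 rho TT uu 20 rho_uu ht1_0 rfl
    (Fn.treeOK_start hN0 rho uu 20 [12, 13, 14, 15, 16, 17, 18, 19] 1 (by decide))

theorem hlev1 : Fn.LevelOK hN0 rho [0] 1 720 :=
  Fn.levelOK_of_tree hN0 rho TT uu 20 rho_uu (by decide) (by decide) hgens1 htree1

theorem htree2 : Fn.TreeOK hN0 rho uu 20 [14, 15, 16, 17, 18, 19] 2 142576269300758436763300378193110860275783565244502067302987071902215161580294259057399224091299060448607914454772187301423212036829343838262761861229436007918641748806555832779027375720503316 21 :=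
  Fn.treeOK_step hN0 rho TT uu 20 rho_uu ht2_0 rfl
    (Fn.treeOK_start hN0 rho uu 20 [14, 15, 16, 17, 18, 19] 2 (by decide))

theorem hlev2 : Fn.LevelOK hN0 rho [1, 0] 2 21 :=
  Fn.levelOK_of_tree hN0 rho TT uu 20 rho_uu (by decide) (by decide) hgens2 htree2

theorem htree3 : Fn.TreeOK hN0 rho uu 20 [16, 17, 18, 19] 3 10977524419101608 16 :=
  Fn.treeOK_step hN0 rho TT uu 20 rho_uu ht3_0 rfl
    (Fn.treeOK_start hN0 rho uu 20 [16, 17, 18, 19] 3 (by decide))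

theorem hlev3 : Fn.LevelOK hN0 rho [2, 1, 0] 3 16 :=
  Fn.levelOK_of_tree hN0 rho TT uu 20 rho_uu (by decide) (by decide) hgens3 htree3

theorem htree4 : Fn.TreeOK hN0 rho uu 20 [19] 4 5070602400912917605986812821520 2 :=
  Fn.treeOK_step hN0 rho TT uu 20 rho_uu ht4_0 rfl
    (Fn.treeOK_start hN0 rho uu 20 [19] 4 (by decide))

theorem hlev4 : Fn.LevelOK hN0 rho [3, 2, 1, 0] 4 2 :=
  Fn.levelOK_of_tree hN0 rho TT uu 20 rho_uu (by decide) (by decide) hgens4 htree4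

theorem hlevels : Fn.LevelsOK hN0 rho [] [(0, 8330), (1, 720), (2, 21), (3, 16), (4, 2)] :=
  Fn.levelsOK_cons hN0 rho hlev0
    (Fn.levelsOK_cons hN0 rho hlev1
    (Fn.levelsOK_cons hN0 rho hlev2
    (Fn.levelsOK_cons hN0 rho hlev3
    (Fn.levelsOK_cons hN0 rho hlev4
    (Fn.levelsOK_nil hN0 rho _)))))

/-- the lower bound for the order, and the injectivity of the representation if it is attained -/
theorem lower [Finite (PresentedGroup (Cfsg.Spor.coxRelators Cfsg.Spor.He.edges ∪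
      {r | r ∈ Cfsg.Spor.He.extra}))] :
    4030387200 ≤ Nat.card (PresentedGroup (Cfsg.Spor.coxRelators Cfsg.Spor.He.edges ∪
      {r | r ∈ Cfsg.Spor.He.extra})) ∧
    (Nat.card (PresentedGroup (Cfsg.Spor.coxRelators Cfsg.Spor.He.edges ∪
      {r | r ∈ Cfsg.Spor.He.extra})) ≤ 4030387200 → Function.Injective rho) := by
  have h := Fn.order_lower_parts hN0 rho [(0, 8330), (1, 720), (2, 21), (3, 16), (4, 2)] hlevels
  have e : (([(0, 8330), (1, 720), (2, 21), (3, 16), (4, 2)] : List (ℕ × ℕ)).map Prod.snd).prod = 4030387200 := by decide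
  rw [e] at h
  exact h

end Cfsg.Agent.Lib.Helper12.TC.Heo8330
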