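import Cfsg.Agent.Lib.Helper12.TC.Heo8330.Tab

/-! relator checks for Heo8330, part 1 (generated, helper12) -/

set_option autoImplicit false
set_option maxRecDepth 100000

namespace Cfsg.Agent.Lib.Helper12.TC.Heo8330

open Cfsg.Agent.Lib.Helper12.TC

theorem horbi0_1 : Fn.orbInvOneK TT [3] 1 721 = true := by decide +kernel

theorem horbi0_3 : Fn.orbInvOneK TT [6] 1 721 = true := by decide +kernel

theorem horbi0_5 : Fn.orbInvOneK TT [1, 2, 3, 5, 4, 3, 2, 3, 4, 1, 2, 3, 2, 3, 1, 2, 3, 5, 4, 3, 2, 1] 1 721 = true := by decide +kernel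

theorem horbi1_0 : Fn.orbInvOneK TT [2] 721 2065 = true := by decide +kernel

theorem horbi1_1 : Fn.orbInvOneK TT [3] 721 2065 = true := by decide +kernel

theorem horbi1_3 : Fn.orbInvOneK TT [6] 721 2065 = true := by decide +kernel

theorem horbi2_2 : Fn.orbInvOneK TT [5] 2065 6545 = true := by decide +kernel

theorem horbi3_1 : Fn.orbInvOneK TT [3] 6545 6650 = true := by decide +kernel

theorem horbi3_3 : Fn.orbInvOneK TT [6] 6545 6650 = true := by decide +kernel

theorem horbi4_1 : Fn.orbInvOneK TT [3] 6650 7490 = true := by decide +kernel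

theorem horbi4_3 : Fn.orbInvOneK TT [6] 6650 7490 = true := by decide +kernel

theorem horbi4_4 : Fn.orbInvOneK TT [0, 1, 0, 1] 6650 7490 = true := by decide +kernel

theorem horbi4_5 : Fn.orbInvOneK TT [1, 2, 3, 5, 4, 3, 2, 3, 4, 1, 2, 3, 2, 3, 1, 2, 3, 5, 4, 3, 2, 1] 6650 7490 = true := by decide +kernel

theorem horbi5_1 : Fn.orbInvOneK TT [3] 7490 8330 = true := by decide +kernel

theorem horbi5_3 : Fn.orbInvOneK TT [6] 7490 8330 = true := by decide +kernel

theorem horbi5_4 : Fn.orbInvOneK TT [0, 1, 0, 1] 7490 8330 = true := by decide +kernel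

theorem hperm0 : Fn.permOneK TT 0 cN = true := by decide +kernel

theorem hperm1 : Fn.permOneK TT 1 cN = true := by decide +kernel

theorem hperm3 : Fn.permOneK TT 3 cN = true := by decide +kernel

theorem hperm5 : Fn.permOneK TT 5 cN = true := by decide +kernel

theorem hm0 : Fn.marksK TT cN [([0, 1], 4)] = true := by decide +kernel

theorem hm2 : Fn.marksK TT cN [([1, 2], 3)] = true := by decide +kernel

theorem hm4 : Fn.marksK TT cN [([1, 3], 2)] = true := by decide +kernel

theorem hm6 : Fn.marksK TT cN [([0, 4], 2)] = true := by decide +kernel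

theorem hm8 : Fn.marksK TT cN [([2, 4], 2)] = true := by decide +kernel

theorem hm10 : Fn.marksK TT cN [([0, 5], 2)] = true := by decide +kernel

theorem hm12 : Fn.marksK TT cN [([2, 5], 2)] = true := by decide +kernel

theorem hm14 : Fn.marksK TT cN [([4, 5], 2)] = true := by decide +kernel

theorem hm16 : Fn.marksK TT cN [([1, 6], 2)] = true := by decide +kernel

theorem hm18 : Fn.marksK TT cN [([3, 6], 3)] = true := by decide +kernel

theorem hm20 : Fn.marksK TT cN [([5, 6], 4)] = true := by decide +kernel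

theorem hm22 : Fn.marksK TT cN [([4, 2, 1, 0, 2, 1, 0, 2, 1, 0], 1)] = true := by decide +kernel

theorem hm23 : Fn.marksK TT cN [([0, 3, 2, 3, 2, 3, 2, 3, 2, 3, 2], 1)] = true := by decide +kernel

end Cfsg.Agent.Lib.Helper12.TC.Heo8330
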