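import Cfsg.Agent.Lib.Helper12.TC.Heo8330.Rel0
import Cfsg.Agent.Lib.Helper12.TC.Heo8330.Rel1
import Cfsg.Agent.Lib.Helper12.TC.HePres

/-! the permutation representation for Heo8330 (generated, helper12) -/

set_option autoImplicit false
set_option maxRecDepth 100000
set_option linter.unusedSimpArgs false

namespace Cfsg.Agent.Lib.Helper12.TC.Heo8330

open Cfsg.Agent.Lib.Helper12.TC Cfsg.Agent.Lib.Helper12.TC.HePres

theorem hperm : Fn.permK TT 7 cN = true := by
  refine Fn.permK_of_ones (fun x hx => ?_)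
  interval_cases x
  · exact hperm0
  · exact hperm1
  · exact hperm2
  · exact hperm3
  · exact hperm4
  · exact hperm5
  · exact hperm6

/-- words as powers -/
def specs : List (List ℕ × ℕ) :=
  [([0, 1], 4),
   ([0, 2], 2),
   ([1, 2], 3),
   ([0, 3], 2),
   ([1, 3], 2),
   ([2, 3], 10),
   ([0, 4], 2),
   ([1, 4], 2),
   ([2, 4], 2),
   ([3, 4], 3),
   ([0, 5], 2),
   ([1, 5], 2),
   ([2, 5], 2),
   ([3, 5], 3),
   ([4, 5], 2),
   ([0, 6], 2),
   ([1, 6], 2),
   ([2, 6], 2),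
   ([3, 6], 3),
   ([4, 6], 2),
   ([5, 6], 4),
   ([4, 6, 5, 6, 5], 1),
   ([4, 2, 1, 0, 2, 1, 0, 2, 1, 0], 1),
   ([0, 3, 2, 3, 2, 3, 2, 3, 2, 3, 2], 1),
   ([2, 3, 5, 6], 4)]

theorem hspecs : coxWords Cfsg.Spor.He.edges gen 7 ++ extraWords =
    specs.map (fun s => wpow s.1 s.2) := by
  decide +kernel

theorem hfixall : Fn.FixAll TT cN specs :=
  Fn.fixAll_cons (Fn.fix_of_marksK hm0)
    (Fn.fixAll_cons (Fn.fix_of_marksK hm1)
    (Fn.fixAll_cons (Fn.fix_of_marksK hm2)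
    (Fn.fixAll_cons (Fn.fix_of_marksK hm3)
    (Fn.fixAll_cons (Fn.fix_of_marksK hm4)
    (Fn.fixAll_cons (Fn.fix_of_marksK hm5)
    (Fn.fixAll_cons (Fn.fix_of_marksK hm6)
    (Fn.fixAll_cons (Fn.fix_of_marksK hm7)
    (Fn.fixAll_cons (Fn.fix_of_marksK hm8)
    (Fn.fixAll_cons (Fn.fix_of_marksK hm9)
    (Fn.fixAll_cons (Fn.fix_of_marksK hm10)
    (Fn.fixAll_cons (Fn.fix_of_marksK hm11)
    (Fn.fixAll_cons (Fn.fix_of_marksK hm12)
    (Fn.fixAll_cons (Fn.fix_of_marksK hm13)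
    (Fn.fixAll_cons (Fn.fix_of_marksK hm14)
    (Fn.fixAll_cons (Fn.fix_of_marksK hm15)
    (Fn.fixAll_cons (Fn.fix_of_marksK hm16)
    (Fn.fixAll_cons (Fn.fix_of_marksK hm17)
    (Fn.fixAll_cons (Fn.fix_of_marksK hm18)
    (Fn.fixAll_cons (Fn.fix_of_marksK hm19)
    (Fn.fixAll_cons (Fn.fix_of_marksK hm20)
    (Fn.fixAll_cons (Fn.fix_of_marksK hm21)
    (Fn.fixAll_cons (Fn.fix_of_marksK hm22)
    (Fn.fixAll_cons (Fn.fix_of_marksK hm23)
    (Fn.fixAll_cons (Fn.fix_of_marksK hm24)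
    (Fn.fixAll_nil TT cN)))))))))))))))))))))))))

theorem hrels : Fn.relsK TT cN (coxWords Cfsg.Spor.He.edges gen 7 ++ extraWords) = true := by
  rw [hspecs]
  exact Fn.relsK_of_fixAll hfixall

theorem hsub : Fn.subK TT 7 sw = true := by decide +kernel

theorem htrans : Fn.transK TT 7 cN sw = true := by decide +kernel

theorem horbi0 : Fn.orbInvK TT sw 1 721 = true := by
  refine Fn.orbInvK_of_ones ?_
  unfold sw
  simp only [List.forall_mem_cons, List.not_mem_nil, false_imp_iff, implies_true, and_true]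
  exact ⟨horbi0_0, horbi0_1, horbi0_2, horbi0_3, horbi0_4, horbi0_5⟩

theorem horbc0 : Fn.orbConnK TT sw 1 721 = true := by decide +kernel

theorem horbi1 : Fn.orbInvK TT sw 721 2065 = true := by
  refine Fn.orbInvK_of_ones ?_
  unfold sw
  simp only [List.forall_mem_cons, List.not_mem_nil, false_imp_iff, implies_true, and_true]
  exact ⟨horbi1_0, horbi1_1, horbi1_2, horbi1_3, horbi1_4, horbi1_5⟩

theorem horbc1 : Fn.orbConnK TT sw 721 2065 = true := by decide +kernel

theorem horbi2 : Fn.orbInvK TT sw 2065 6545 = true := by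
  refine Fn.orbInvK_of_ones ?_
  unfold sw
  simp only [List.forall_mem_cons, List.not_mem_nil, false_imp_iff, implies_true, and_true]
  exact ⟨horbi2_0, horbi2_1, horbi2_2, horbi2_3, horbi2_4, horbi2_5⟩

theorem horbc2 : Fn.orbConnK TT sw 2065 6545 = true := by decide +kernel

theorem horbi3 : Fn.orbInvK TT sw 6545 6650 = true := by
  refine Fn.orbInvK_of_ones ?_
  unfold sw
  simp only [List.forall_mem_cons, List.not_mem_nil, false_imp_iff, implies_true, and_true]
  exact ⟨horbi3_0, horbi3_1, horbi3_2, horbi3_3, horbi3_4, horbi3_5⟩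

theorem horbc3 : Fn.orbConnK TT sw 6545 6650 = true := by decide +kernel

theorem horbi4 : Fn.orbInvK TT sw 6650 7490 = true := by
  refine Fn.orbInvK_of_ones ?_
  unfold sw
  simp only [List.forall_mem_cons, List.not_mem_nil, false_imp_iff, implies_true, and_true]
  exact ⟨horbi4_0, horbi4_1, horbi4_2, horbi4_3, horbi4_4, horbi4_5⟩

theorem horbc4 : Fn.orbConnK TT sw 6650 7490 = true := by decide +kernel

theorem horbi5 : Fn.orbInvK TT sw 7490 8330 = true := by
  refine Fn.orbInvK_of_ones ?_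
  unfold sw
  simp only [List.forall_mem_cons, List.not_mem_nil, false_imp_iff, implies_true, and_true]
  exact ⟨horbi5_0, horbi5_1, horbi5_2, horbi5_3, horbi5_4, horbi5_5⟩

theorem horbc5 : Fn.orbConnK TT sw 7490 8330 = true := by decide +kernel

end Cfsg.Agent.Lib.Helper12.TC.Heo8330
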