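import Cfsg.Agent.Lib.Helper12.TC.Fn.Rho
import Cfsg.Agent.Lib.Helper12.TC.Heo8330.Chk0
import Cfsg.Agent.Lib.Helper12.TC.Heo8330.Chk1
import Cfsg.Agent.Lib.Helper12.TC.Heo8330.Perm
import Cfsg.Agent.Lib.Helper12.TC.Heo8330.Fin

/-! the index theorem for Heo8330 (generated, helper12) -/

set_option autoImplicit false
set_option maxRecDepth 100000
set_option linter.unusedSimpArgs false

namespace Cfsg.Agent.Lib.Helper12.TC.Heo8330

open Cfsg.Agent.Lib.Helper12.TC Cfsg.Agent.Lib.Helper12.TC.HePres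

/-- the chunks of the certificate -/
def chunks : List (ℕ × List ℕ) :=
  [(8443, c0), (10443, c1), (12443, c2), (14443, c3), (16443, c4), (18443, c5), (20443, c6), (22443, c7), (24443, c8), (26443, c9), (28443, c10)]

theorem hcover : coverK cD cK chunks = true := by decide +kernel

theorem hchunks : ∀ c ∈ chunks, chunkK F RW cR0 c.2 c.1 = true := by
  unfold chunks
  simp only [List.forall_mem_cons, List.not_mem_nil, false_imp_iff, implies_true, and_true]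
  exact ⟨chunk0, chunk1, chunk2, chunk3, chunk4, chunk5, chunk6, chunk7, chunk8, chunk9, chunk10⟩

/-- the subgroup generators -/
def S : Set (FreeGroup Cfsg.Spor.He.Gen) := {Cfsg.Spor.He.c, Cfsg.Spor.He.d, Cfsg.Spor.He.f, Cfsg.Spor.He.g, (Cfsg.Spor.He.a * Cfsg.Spor.He.b) ^ 2, Cfsg.Spor.He.b * Cfsg.Spor.He.c * Cfsg.Spor.He.d * Cfsg.Spor.He.f * Cfsg.Spor.He.e * Cfsg.Spor.He.d * Cfsg.Spor.He.c * Cfsg.Spor.He.d * Cfsg.Spor.He.e * Cfsg.Spor.He.b * Cfsg.Spor.He.c * Cfsg.Spor.He.d * Cfsg.Spor.He.c * Cfsg.Spor.He.d * Cfsg.Spor.He.b * Cfsg.Spor.He.c * Cfsg.Spor.He.d * Cfsg.Spor.He.f * Cfsg.Spor.He.e * Cfsg.Spor.He.d * Cfsg.Spor.He.c * Cfsg.Spor.He.b}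

set_option maxRecDepth 10000 in
theorem hS : (PresentedGroup.mk (Cfsg.Spor.coxRelators Cfsg.Spor.He.edges ∪
      {r | r ∈ Cfsg.Spor.He.extra})) '' S =
    {γ | ∃ w ∈ sw, γ = wprod (fun i => PresentedGroup.mk (Cfsg.Spor.coxRelators Cfsg.Spor.He.edges ∪
      {r | r ∈ Cfsg.Spor.He.extra}) (FreeGroup.of (gen i))) w} := by
  ext γ
  constructor
  · rintro ⟨x, hx, rfl⟩
    rcases hx with rfl | rfl | rfl | rfl | rfl | rfl
    · exact ⟨[2], by decide, by simp [wprod, gen, pow_succ, mul_assoc]⟩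
    · exact ⟨[3], by decide, by simp [wprod, gen, pow_succ, mul_assoc]⟩
    · exact ⟨[5], by decide, by simp [wprod, gen, pow_succ, mul_assoc]⟩
    · exact ⟨[6], by decide, by simp [wprod, gen, pow_succ, mul_assoc]⟩
    · exact ⟨[0, 1, 0, 1], by decide, by simp [wprod, gen, pow_succ, mul_assoc]⟩
    · exact ⟨[1, 2, 3, 5, 4, 3, 2, 3, 4, 1, 2, 3, 2, 3, 1, 2, 3, 5, 4, 3, 2, 1], by decide, by simp [wprod, gen, pow_succ, mul_assoc]⟩
  · rintro ⟨w, hw, rfl⟩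
    simp only [sw, List.mem_cons, List.not_mem_nil, or_false] at hw
    rcases hw with rfl | rfl | rfl | rfl | rfl | rfl
    · exact ⟨Cfsg.Spor.He.c, Or.inl rfl, by simp [wprod, gen, pow_succ, mul_assoc]⟩
    · exact ⟨Cfsg.Spor.He.d, Or.inr (Or.inl rfl), by simp [wprod, gen, pow_succ, mul_assoc]⟩
    · exact ⟨Cfsg.Spor.He.f, Or.inr (Or.inr (Or.inl rfl)), by simp [wprod, gen, pow_succ, mul_assoc]⟩
    · exact ⟨Cfsg.Spor.He.g, Or.inr (Or.inr (Or.inr (Or.inl rfl))), by simp [wprod, gen, pow_succ, mul_assoc]⟩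
    · exact ⟨(Cfsg.Spor.He.a * Cfsg.Spor.He.b) ^ 2, Or.inr (Or.inr (Or.inr (Or.inr (Or.inl rfl)))), by simp [wprod, gen, pow_succ, mul_assoc]⟩
    · exact ⟨Cfsg.Spor.He.b * Cfsg.Spor.He.c * Cfsg.Spor.He.d * Cfsg.Spor.He.f * Cfsg.Spor.He.e * Cfsg.Spor.He.d * Cfsg.Spor.He.c * Cfsg.Spor.He.d * Cfsg.Spor.He.e * Cfsg.Spor.He.b * Cfsg.Spor.He.c * Cfsg.Spor.He.d * Cfsg.Spor.He.c * Cfsg.Spor.He.d * Cfsg.Spor.He.b * Cfsg.Spor.He.c * Cfsg.Spor.He.d * Cfsg.Spor.He.f * Cfsg.Spor.He.e * Cfsg.Spor.He.d * Cfsg.Spor.He.c * Cfsg.Spor.He.b, Or.inr (Or.inr (Or.inr (Or.inr (Or.inr (rfl))))), by simp [wprod, gen, pow_succ, mul_assoc]⟩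

theorem hN0 : 0 < cN := by decide

/-- the permutation representation on the cosets of the subgroup -/
theorem mainRho :
    ∃ ρ : PresentedGroup (Cfsg.Spor.coxRelators Cfsg.Spor.He.edges ∪
      {r | r ∈ Cfsg.Spor.He.extra}) →* Equiv.Perm (Fin cN),
      (∀ x < 7, ∀ i : Fin cN, ((ρ (PresentedGroup.mk (Cfsg.Spor.coxRelators Cfsg.Spor.He.edges ∪
      {r | r ∈ Cfsg.Spor.He.extra})
        (FreeGroup.of (gen x))) i : Fin cN) : ℕ) = TT x i) ∧
      ((Subgroup.closure S).map (PresentedGroup.mk (Cfsg.Spor.coxRelators Cfsg.Spor.He.edges ∪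
      {r | r ∈ Cfsg.Spor.He.extra}))).index = cN ∧
      ∃ Φ : (PresentedGroup (Cfsg.Spor.coxRelators Cfsg.Spor.He.edges ∪
      {r | r ∈ Cfsg.Spor.He.extra}) ⧸
          (Subgroup.closure S).map (PresentedGroup.mk (Cfsg.Spor.coxRelators Cfsg.Spor.He.edges ∪
      {r | r ∈ Cfsg.Spor.He.extra}))) ≃ Fin cN,
        ∀ γ : PresentedGroup (Cfsg.Spor.coxRelators Cfsg.Spor.He.edges ∪
      {r | r ∈ Cfsg.Spor.He.extra}),
          Φ (γ : PresentedGroup (Cfsg.Spor.coxRelators Cfsg.Spor.He.edges ∪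
      {r | r ∈ Cfsg.Spor.He.extra}) ⧸
            (Subgroup.closure S).map (PresentedGroup.mk (Cfsg.Spor.coxRelators Cfsg.Spor.He.edges ∪
      {r | r ∈ Cfsg.Spor.He.extra}))) = ρ γ ⟨0, hN0⟩ :=
  Fn.presented_rho Cfsg.Spor.He.edges Cfsg.Spor.He.extra gen idx 7 (by decide) hidx hgi hnodes
    extraWords hextra sw S hS F RW finrecs TT rotW chunks cD cK cR0 cR cN hdefs hchunks hcover
    hrelc hlet hperm hrels hsub htrans hfin hlen hN0

end Cfsg.Agent.Lib.Helper12.TC.Heo8330
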