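import Cfsg.Agent.Lib.Helper12.TC.Heo8330.Tab

/-! relator checks for Heo8330, part 0 (generated, helper12) -/

set_option autoImplicit false
set_option maxRecDepth 100000

namespace Cfsg.Agent.Lib.Helper12.TC.Heo8330

open Cfsg.Agent.Lib.Helper12.TC

theorem horbi0_0 : Fn.orbInvOneK TT [2] 1 721 = true := by decide +kernel

theorem horbi0_2 : Fn.orbInvOneK TT [5] 1 721 = true := by decide +kernel

theorem horbi0_4 : Fn.orbInvOneK TT [0, 1, 0, 1] 1 721 = true := by decide +kernel

theorem horbi1_2 : Fn.orbInvOneK TT [5] 721 2065 = true := by decide +kernel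

theorem horbi1_4 : Fn.orbInvOneK TT [0, 1, 0, 1] 721 2065 = true := by decide +kernel

theorem horbi1_5 : Fn.orbInvOneK TT [1, 2, 3, 5, 4, 3, 2, 3, 4, 1, 2, 3, 2, 3, 1, 2, 3, 5, 4, 3, 2, 1] 721 2065 = true := by decide +kernel

theorem horbi2_0 : Fn.orbInvOneK TT [2] 2065 6545 = true := by decide +kernel

theorem horbi2_1 : Fn.orbInvOneK TT [3] 2065 6545 = true := by decide +kernel

theorem horbi2_3 : Fn.orbInvOneK TT [6] 2065 6545 = true := by decide +kernel

theorem horbi2_4 : Fn.orbInvOneK TT [0, 1, 0, 1] 2065 6545 = true := by decide +kernel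

theorem horbi2_5 : Fn.orbInvOneK TT [1, 2, 3, 5, 4, 3, 2, 3, 4, 1, 2, 3, 2, 3, 1, 2, 3, 5, 4, 3, 2, 1] 2065 6545 = true := by decide +kernel

theorem horbi3_0 : Fn.orbInvOneK TT [2] 6545 6650 = true := by decide +kernel

theorem horbi3_2 : Fn.orbInvOneK TT [5] 6545 6650 = true := by decide +kernel

theorem horbi3_4 : Fn.orbInvOneK TT [0, 1, 0, 1] 6545 6650 = true := by decide +kernel

theorem horbi3_5 : Fn.orbInvOneK TT [1, 2, 3, 5, 4, 3, 2, 3, 4, 1, 2, 3, 2, 3, 1, 2, 3, 5, 4, 3, 2, 1] 6545 6650 = true := by decide +kernel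

theorem horbi4_0 : Fn.orbInvOneK TT [2] 6650 7490 = true := by decide +kernel

theorem horbi4_2 : Fn.orbInvOneK TT [5] 6650 7490 = true := by decide +kernel

theorem horbi5_0 : Fn.orbInvOneK TT [2] 7490 8330 = true := by decide +kernel

theorem horbi5_2 : Fn.orbInvOneK TT [5] 7490 8330 = true := by decide +kernel

theorem horbi5_5 : Fn.orbInvOneK TT [1, 2, 3, 5, 4, 3, 2, 3, 4, 1, 2, 3, 2, 3, 1, 2, 3, 5, 4, 3, 2, 1] 7490 8330 = true := by decide +kernel

theorem hperm2 : Fn.permOneK TT 2 cN = true := by decide +kernel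

theorem hperm4 : Fn.permOneK TT 4 cN = true := by decide +kernel

theorem hperm6 : Fn.permOneK TT 6 cN = true := by decide +kernel

theorem hm1 : Fn.marksK TT cN [([0, 2], 2)] = true := by decide +kernel

theorem hm3 : Fn.marksK TT cN [([0, 3], 2)] = true := by decide +kernel

theorem hm5 : Fn.marksK TT cN [([2, 3], 10)] = true := by decide +kernel

theorem hm7 : Fn.marksK TT cN [([1, 4], 2)] = true := by decide +kernel

theorem hm9 : Fn.marksK TT cN [([3, 4], 3)] = true := by decide +kernel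

theorem hm11 : Fn.marksK TT cN [([1, 5], 2)] = true := by decide +kernel

theorem hm13 : Fn.marksK TT cN [([3, 5], 3)] = true := by decide +kernel

theorem hm15 : Fn.marksK TT cN [([0, 6], 2)] = true := by decide +kernel

theorem hm17 : Fn.marksK TT cN [([2, 6], 2)] = true := by decide +kernel

theorem hm19 : Fn.marksK TT cN [([4, 6], 2)] = true := by decide +kernel

theorem hm21 : Fn.marksK TT cN [([4, 6, 5, 6, 5], 1)] = true := by decide +kernel

theorem hm24 : Fn.marksK TT cN [([2, 3, 5, 6], 4)] = true := by decide +kernel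

end Cfsg.Agent.Lib.Helper12.TC.Heo8330
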